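import Groth.Prelude.Def_LieS
import Mathlib.AlgebraicGeometry.Limits
import Mathlib.AlgebraicGeometry.Morphisms.SchemeTheoreticallyDominant
import Mathlib.Algebra.Algebra.Prod
import Groth.Agent.S2913

/-!
# Additivity of the scalar action on the Lie algebra of a group scheme
-/

set_option autoImplicit false
universe u

open CategoryTheory CategoryTheory.Limits MonoidalCategory CartesianMonoidalCategory MonObj GrpObj AlgebraicGeometry TrivSqZeroExt

noncomputable section

namespace Groth.Agent.LieAdd

variable {B : Type u} [CommRing B]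

/-- First order neighbourhood of the origin in the plane. -/
abbrev P (B : Type u) [CommRing B] : Type u := TrivSqZeroExt B (B × B)

def σ (a b : B) : DualNumber B →+* P B :=
  (TrivSqZeroExt.map (R' := B) ((LinearMap.id.smulRight (a, b)) : B →ₗ[B] B × B)).toRingHom

def r (a b : B) : P B →+* DualNumber B :=
  (TrivSqZeroExt.map (R' := B) ((a • LinearMap.fst B B B + b • LinearMap.snd B B B) : B × B →ₗ[B] B)).toRingHom

@[simp] theorem fst_map {M N : Type u} [AddCommGroup M] [AddCommGroup N] [Module B M] [Module B N] [Module Bᵐᵒᵖ M]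
    [Module Bᵐᵒᵖ N] [IsCentralScalar B M] [IsCentralScalar B N] (g : M →ₗ[B] N) (x : TrivSqZeroExt B M) :
    (TrivSqZeroExt.map (R' := B) g x).fst = x.fst := by
  induction x using TrivSqZeroExt.ind with
  | inl_add_inr a m => simp [TrivSqZeroExt.map_inl, TrivSqZeroExt.map_inr]

@[simp] theorem snd_map {M N : Type u} [AddCommGroup M] [AddCommGroup N] [Module B M] [Module B N] [Module Bᵐᵒᵖ M]
    [Module Bᵐᵒᵖ N] [IsCentralScalar B M] [IsCentralScalar B N] (g : M →ₗ[B] N) (x : TrivSqZeroExt B M) :
    (TrivSqZeroExt.map (R' := B) g x).snd = g x.snd := by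
  induction x using TrivSqZeroExt.ind with
  | inl_add_inr a m => simp [TrivSqZeroExt.map_inl, TrivSqZeroExt.map_inr]

theorem r_comp_σ (a b c d : B) : (r a b).comp (σ c d) = LieS.scaleHom (a * c + b * d) := by
  refine RingHom.ext fun x => ?_
  ext <;> simp [r, σ, LieS.scaleHom, TrivSqZeroExt.algebraMap_eq_inl', smul_eq_mul]
  all_goals ring

theorem injective_pair : Function.Injective ((r (1 : B) 0).prod (r 0 1)) := by
  intro x y h
  have h1 := congrArg Prod.fst h
  have h2 := congrArg Prod.snd h
  have a1 := congrArg TrivSqZeroExt.fst h1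
  have a2 := congrArg TrivSqZeroExt.snd h1
  have a3 := congrArg TrivSqZeroExt.snd h2
  simp [r] at a1 a2 a3
  ext <;> assumption

theorem algebraMap_comp_σ (a b : B) :
    (σ a b).comp (algebraMap B (DualNumber B)) = algebraMap B (P B) :=
  (TrivSqZeroExt.map _).comp_algebraMap

theorem algebraMap_comp_r (a b : B) :
    (r a b).comp (algebraMap B (P B)) = algebraMap B (DualNumber B) :=
  (TrivSqZeroExt.map _).comp_algebraMap

theorem surjective_specMap_pair : Surjective (Spec.map (CommRingCat.ofHom ((r (1 : B) 0).prod (r 0 1)))) := by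
  refine ⟨fun p => ?_⟩
  have hsurj : Function.Surjective (r (1 : B) 0) := fun x => ⟨inl x.fst + inr (x.snd, 0), by
    ext <;> simp [r]⟩
  have hker : RingHom.ker (r (1 : B) 0) ≤ p.asIdeal := by
    intro x hx
    refine p.isPrime.mem_of_pow_mem 2 ?_
    have h1 : x.fst = 0 := by
      have := congrArg TrivSqZeroExt.fst (RingHom.mem_ker.1 hx)
      simpa [r] using this
    have : x ^ 2 = 0 := by rw [sq]; ext <;> simp [h1]
    rw [this]; exact zero_mem _
  obtain ⟨q, hq⟩ : p ∈ Set.range (PrimeSpectrum.comap (r (1 : B) 0)) := by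
    rw [range_comap_of_surjective _ _ hsurj]; exact hker
  refine ⟨PrimeSpectrum.comap (RingHom.fst (DualNumber B) (DualNumber B)) q, ?_⟩
  conv_rhs => rw [← hq]
  rfl

theorem hom_ext_P {X : Scheme.{u}} (m₁ m₂ : Spec (CommRingCat.of (P B)) ⟶ X)
    (h1 : Spec.map (CommRingCat.ofHom (r (1 : B) 0)) ≫ m₁ = Spec.map (CommRingCat.ofHom (r (1 : B) 0)) ≫ m₂)
    (h2 : Spec.map (CommRingCat.ofHom (r (0 : B) 1)) ≫ m₁ = Spec.map (CommRingCat.ofHom (r (0 : B) 1)) ≫ m₂) :
    m₁ = m₂ := by
  let g := Spec.map (CommRingCat.ofHom ((r (1 : B) 0).prod (r 0 1)))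
  haveI : Surjective g := surjective_specMap_pair
  haveI : IsSchemeTheoreticallyDominant g := by
    refine ⟨?_⟩
    rw [Scheme.ker_of_isAffine]
    have hinj : Function.Injective g.appTop.hom := by
      intro a b hab
      apply (Scheme.ΓSpecIso (CommRingCat.of (P B))).commRingCatIsoToRingEquiv.injective
      apply injective_pair
      have n := Scheme.ΓSpecIso_naturality (CommRingCat.ofHom ((r (1 : B) 0).prod (r 0 1)))
      have ha := congrArg (fun t => t.hom a) n
      have hb := congrArg (fun t => t.hom b) n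
      simp only [CommRingCat.hom_comp, RingHom.comp_apply] at ha hb
      rw [hab] at ha
      exact ha.symm.trans hb
    rw [(RingHom.injective_iff_ker_eq_bot _).1 hinj]
    exact Scheme.IdealSheafData.ext_of_isAffine (by simp [Scheme.IdealSheafData.ofIdealTop_ideal])
  haveI : Epi g := Groth.Agent.S2913.result g fun U => g.app_injective U
  rw [← cancel_epi g, ← cancel_epi (coprodSpec (DualNumber B) (DualNumber B))]
  apply coprod.hom_ext
  · simp only [g, coprodSpec_inl_assoc, ← Spec.map_comp_assoc, ← CommRingCat.ofHom_comp, RingHom.fst_comp_prod]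
    exact h1
  · simp only [g, coprodSpec_inr_assoc, ← Spec.map_comp_assoc, ← CommRingCat.ofHom_comp, RingHom.snd_comp_prod]
    exact h2

variable {S : Scheme.{u}} (G : Over S) [GrpObj G] (f : Spec (CommRingCat.of B) ⟶ S)

theorem scale_one : LieS.scale B f 1 = 𝟙 _ := by
  ext
  change Spec.map _ = 𝟙 _
  rw [show LieS.scaleHom (1 : B) = RingHom.id (DualNumber B) from RingHom.ext fun x => by
    ext <;> simp [LieS.scaleHom, TrivSqZeroExt.algebraMap_eq_inl'], CommRingCat.ofHom_id]
  exact Spec.map_id _

theorem one_smul (v : LieS.Lie G B f) : (1 : B) • v = v :=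
  Subtype.ext (by rw [LieS.smul_val, scale_one, Category.id_comp])

theorem scale_zero : LieS.scale B f 0 = LieS.proj B f ≫ LieS.zeroSec B f := by
  ext
  change Spec.map _ = Spec.map _ ≫ Spec.map _
  rw [LieS.specMap_comp]
  congr 2
  refine RingHom.ext fun x => ?_
  ext <;> simp [LieS.scaleHom, TrivSqZeroExt.algebraMap_eq_inl']

theorem zero_smul (v : LieS.Lie G B f) : (0 : B) • v = 1 :=
  Subtype.ext (by
    rw [LieS.smul_val, scale_zero, Category.assoc, (LieS.mem_Lie_iff G B f v.1).1 v.2, MonObj.comp_one]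
    rfl)

theorem add_smul (a b : B) (v : LieS.Lie G B f) : (a + b) • v = (a • v) * (b • v) := by
  let Pt : Over S := Over.mk (Spec.map (CommRingCat.ofHom (algebraMap B (P B))) ≫ f)
  let s : ∀ a b : B, Pt ⟶ LieS.dpt B f := fun a b => Over.homMk (Spec.map (CommRingCat.ofHom (σ a b))) (by
    show Spec.map _ ≫ Spec.map _ ≫ f = Spec.map _ ≫ f
    rw [← Category.assoc, LieS.specMap_comp, algebraMap_comp_σ])
  let t : ∀ a b : B, LieS.dpt B f ⟶ Pt := fun a b => Over.homMk (Spec.map (CommRingCat.ofHom (r a b))) (by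
    show Spec.map _ ≫ Spec.map _ ≫ f = Spec.map _ ≫ f
    rw [← Category.assoc, LieS.specMap_comp, algebraMap_comp_r])
  have hts : ∀ a b c d : B, t a b ≫ s c d = LieS.scale B f (a * c + b * d) := fun a b c d => by
    ext
    change Spec.map _ ≫ Spec.map _ = Spec.map _
    rw [LieS.specMap_comp, r_comp_σ]
  have h0 : LieS.scale B f 0 ≫ v.1 = 1 := congrArg Subtype.val (zero_smul G f v)
  have hr : ∀ a b : B, t a b ≫ ((s 1 0 ≫ v.1) * (s 0 1 ≫ v.1)) = (LieS.scale B f a ≫ v.1) * (LieS.scale B f b ≫ v.1) := by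
    intro a b
    rw [MonObj.comp_mul, ← Category.assoc, ← Category.assoc, hts, hts]
    simp
  have key : s 1 1 ≫ v.1 = (s 1 0 ≫ v.1) * (s 0 1 ≫ v.1) := by
    apply Over.OverMorphism.ext
    refine hom_ext_P _ _ ?_ ?_
    · refine congrArg (fun m : LieS.dpt B f ⟶ G => m.left) (a₁ := t 1 0 ≫ s 1 1 ≫ v.1)
        (a₂ := t 1 0 ≫ ((s 1 0 ≫ v.1) * (s 0 1 ≫ v.1))) ?_
      rw [← Category.assoc, hts, hr, h0, _root_.mul_one]
      simp
    · refine congrArg (fun m : LieS.dpt B f ⟶ G => m.left) (a₁ := t 0 1 ≫ s 1 1 ≫ v.1)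
        (a₂ := t 0 1 ≫ ((s 1 0 ≫ v.1) * (s 0 1 ≫ v.1))) ?_
      rw [← Category.assoc, hts, hr, h0, _root_.one_mul]
      simp
  refine Subtype.ext ?_
  show LieS.scale B f (a + b) ≫ v.1 = (LieS.scale B f a ≫ v.1) * (LieS.scale B f b ≫ v.1)
  rw [← hr, ← key, ← Category.assoc, hts, _root_.mul_one, _root_.mul_one]

/-- The `n`-th power on the Lie algebra is multiplication by `n`. -/
theorem zpow_eq_intCast_smul (v : LieS.Lie G B f) (n : ℤ) : v ^ n = ((n : B) • v : LieS.Lie G B f) := by
  let φ : Multiplicative B →* LieS.Lie G B f :=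
    { toFun := fun b => b.toAdd • v
      map_one' := zero_smul G f v
      map_mul' := fun a b => add_smul G f a.toAdd b.toAdd v }
  have h := map_zpow φ (Multiplicative.ofAdd (1 : B)) n
  have h1 : φ (Multiplicative.ofAdd (1 : B)) = v := one_smul G f v
  rw [h1] at h
  rw [← h, ← ofAdd_zsmul]
  simp [φ]

/-- An injective ring map with surjective spectrum gives an epimorphism of schemes. -/
theorem epi_specMap {A C : Type u} [CommRing A] [CommRing C] (φ : A →+* C) (hinj : Function.Injective φ)
    (hs : Surjective (Spec.map (CommRingCat.ofHom φ))) : Epi (Spec.map (CommRingCat.ofHom φ)) := by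
  let g := Spec.map (CommRingCat.ofHom φ)
  haveI : Surjective g := hs
  haveI : IsSchemeTheoreticallyDominant g := by
    refine ⟨?_⟩
    rw [Scheme.ker_of_isAffine]
    have hinj' : Function.Injective g.appTop.hom := by
      intro a b hab
      apply (Scheme.ΓSpecIso (CommRingCat.of A)).commRingCatIsoToRingEquiv.injective
      apply hinj
      have n := Scheme.ΓSpecIso_naturality (CommRingCat.ofHom φ)
      have ha := congrArg (fun t => t.hom a) n
      have hb := congrArg (fun t => t.hom b) n
      simp only [CommRingCat.hom_comp, RingHom.comp_apply] at ha hb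
      rw [hab] at ha
      exact ha.symm.trans hb
    rw [(RingHom.injective_iff_ker_eq_bot _).1 hinj']
    exact Scheme.IdealSheafData.ext_of_isAffine (by simp [Scheme.IdealSheafData.ofIdealTop_ideal])
  exact Groth.Agent.S2913.result g fun U => g.app_injective U

theorem injective_mulHom : Function.Injective (LieS.mulHom B) := by
  intro x y h
  have h1 := congrArg (fun z => (TrivSqZeroExt.fst z).fst) h
  have h2 := congrArg (fun z => (TrivSqZeroExt.snd z).snd) h
  simp [LieS.mulHom, TrivSqZeroExt.algebraMap_eq_inl'] at h1 h2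
  ext <;> assumption

theorem surjective_specMap_mulHom : Surjective (Spec.map (CommRingCat.ofHom (R := DualNumber B) (S := LieS.D2 B) (LieS.mulHom B))) := by
  refine ⟨fun p => ?_⟩
  let π : DualNumber B →+* B := (TrivSqZeroExt.fstHom B B B).toRingHom
  let π' : LieS.D2 B →+* DualNumber B := (TrivSqZeroExt.fstHom (DualNumber B) (DualNumber B) (DualNumber B)).toRingHom
  have hker : RingHom.ker π ≤ p.asIdeal := by
    intro x hx
    refine p.isPrime.mem_of_pow_mem 2 ?_
    have h1 : x.fst = 0 := hx
    have : x ^ 2 = 0 := by rw [sq]; ext <;> simp [h1]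
    rw [this]; exact zero_mem _
  obtain ⟨p0, hp0⟩ : p ∈ Set.range (PrimeSpectrum.comap π) := by
    rw [range_comap_of_surjective _ _ (fun b => ⟨inl b, rfl⟩)]; exact hker
  refine ⟨PrimeSpectrum.comap (π.comp π') p0, ?_⟩
  have e : (π.comp π').comp (LieS.mulHom B) = π := RingHom.ext fun x => by
    simp [π, π', LieS.mulHom, TrivSqZeroExt.algebraMap_eq_inl']
  conv_rhs => rw [← hp0, ← e]
  rfl

/-- An element of the Lie algebra is determined by its pull-back along the coordinate-multiplying map. -/
theorem eq_of_mulMap_eq (z z' : LieS.Lie G B f) (h : LieS.mulMap B f ≫ z.1 = LieS.mulMap B f ≫ z'.1) : z = z' := by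
  haveI : Epi (LieS.mulMap B f).left := epi_specMap _ injective_mulHom surjective_specMap_mulHom
  haveI : Epi (LieS.mulMap B f) := (Over.forget S).epi_of_epi_map (inferInstanceAs (Epi (LieS.mulMap B f).left))
  exact Subtype.ext ((cancel_epi _).1 h)

end Groth.Agent.LieAdd
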